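import Groth.Agent.FlatFibre5.Noeth
import Groth.Agent.S9218

/-!
# The locus of flatness on the fibres
-/

set_option autoImplicit false
set_option maxHeartbeats 1000000
set_option synthInstance.maxHeartbeats 400000
set_option linter.style.haveILetI false
set_option backward.isDefEq.respectTransparency false
set_option backward.isDefEq.respectTransparency.types false

universe u

open CategoryTheory CategoryTheory.Limits AlgebraicGeometry Topology

namespace Groth.Agent.FlatFibre5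

theorem fibFlatAt_of_iso {X Y S : Scheme.{u}} (f : X ⟶ Y) (h : Y ⟶ S) {F G : X.Modules} (e : F ≅ G) (x : X) :
    FibFlatAt f h F x ↔ FibFlatAt f h G x := by
  obtain ⟨z, hz⟩ : ∃ z, (f ≫ h).fiberι ((f ≫ h) x) z = x := ⟨_, (f ≫ h).fiberι_asFiber x⟩
  conv_lhs => rw [← hz]
  conv_rhs => rw [← hz]
  rw [fibFlatAt_iff, fibFlatAt_iff]
  let e' := (Scheme.Modules.pullback ((f ≫ h).fiberι ((f ≫ h) x))).mapIso e
  exact ⟨GrFlat5.isFlatOverAt_of_iso _ e' z, GrFlat5.isFlatOverAt_of_iso _ e'.symm z⟩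

open ConsPropLib ConsPropLib.NoethApprox in
/-- A morphism with a module, of finite presentation over an affine base, comes from a noetherian base. -/
theorem exists_model {A : CommRingCat.{u}} {X Y : Scheme.{u}} (f : X ⟶ Y) (h : Y ⟶ Spec A)
    [LocallyOfFinitePresentation h] [QuasiCompact h] [QuasiSeparated h]
    [LocallyOfFinitePresentation (f ≫ h)] [QuasiCompact (f ≫ h)] [QuasiSeparated (f ≫ h)]
    (F : X.Modules) (hq : Coh.IsQCoh F) (hF : CohB1.IsFP F) :
    ∃ (S₀ X₀ Y₀ : Scheme.{u}) (π : Spec A ⟶ S₀) (f₀ : X₀ ⟶ Y₀) (h₀ : Y₀ ⟶ S₀) (qX : X ⟶ X₀) (qY : Y ⟶ Y₀)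
      (F₀ : X₀.Modules),
      IsNoetherian S₀ ∧ LocallyOfFiniteType h₀ ∧ QuasiCompact h₀ ∧ LocallyOfFiniteType (f₀ ≫ h₀) ∧
      QuasiCompact (f₀ ≫ h₀) ∧ IsPullback qY h h₀ π ∧ IsPullback qX f f₀ qY ∧
      Coh.IsQCoh F₀ ∧ CohB1.IsFP F₀ ∧ Nonempty ((Scheme.Modules.pullback qX).obj F₀ ≅ F) := by
  have hc := NoethApprox.isLimit A
  haveI : ∀ {i j : (Finset A)ᵒᵖ} (r : i ⟶ j), IsAffineHom ((diagram A).map r) := fun r => inferInstance
  haveI : ∀ (i j : (Finset A)ᵒᵖ) (r : i ⟶ j), IsAffineHom ((diagram A).map r) := fun _ _ r => inferInstance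
  obtain ⟨i, X₁, u₁, g₁, F₁, hX₀, hq₁, hF₁, ⟨e₁⟩⟩ := FlatPt5.exists_subring_model (f ≫ h) F hq hF
  obtain ⟨j, Y₁, v₁, h₁, hY₀⟩ := hasModel hc h
  obtain ⟨k, φ, ψ, -⟩ := IsCofilteredOrEmpty.cone_objs i j
  have hX := hX₀.pushed φ
  have hY := hY₀.pushed ψ
  haveI := hX.lfp; haveI := hY.lfp
  haveI := hX.compactSpace; haveI := hY.compactSpace
  haveI := hX.quasiSeparatedSpace; haveI := hY.quasiSeparatedSpace
  obtain ⟨l, χ, fl, sX, sY, hfl, hA1, hA2, hB1, hB2, hs⟩ :=
    Groth.Agent.S9218.result (diagram A) (NoethApprox.cone A) hc k _ _ _ _ hX.sq _ _ hY.sq f rfl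
  have mX := hX.pushed χ
  have mY := hY.pushed χ
  have eX : sX = hX.push χ := pullback.hom_ext (hA1.trans (hX.push_fst χ).symm) (hA2.trans (hX.push_snd χ).symm)
  have eY : sY = hY.push χ := pullback.hom_ext (hB1.trans (hY.push_fst χ).symm) (hB2.trans (hY.push_snd χ).symm)
  subst eX eY
  haveI := mX.lfp; haveI := mY.lfp
  have sqf : IsPullback (hX.push χ) f fl (hY.push χ) := by
    refine IsPullback.of_bot ?_ hs mY.sq
    rw [hfl]
    exact mX.sq
  let a := pullback.fst u₁ ((diagram A).map φ)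
  let b := pullback.fst (pullback.snd u₁ ((diagram A).map φ)) ((diagram A).map χ)
  refine ⟨_, _, _, _, fl, _, hX.push χ, hY.push χ, (Scheme.Modules.pullback b).obj ((Scheme.Modules.pullback a).obj F₁),
    NoethApprox.isNoetherian_obj A l, inferInstance, mY.qc, ?_, ?_, mY.sq, sqf,
    QCoh.isQCoh_pullback _ (QCoh.isQCoh_pullback _ hq₁),
    LimModLib.isFP_pullback _ (QCoh.isQCoh_pullback _ hq₁) (LimModLib.isFP_pullback _ hq₁ hF₁), ⟨?_⟩⟩
  · rw [hfl]; infer_instance
  · rw [hfl]; exact mX.qc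
  · exact (Scheme.Modules.pullback (hX.push χ)).mapIso ((Scheme.Modules.pullbackComp b a).app F₁) ≪≫
      (Scheme.Modules.pullbackComp (hX.push χ) (b ≫ a)).app F₁ ≪≫
      eqToIso (by rw [← Category.assoc, hX.push_fst χ, hX₀.push_fst φ]) ≪≫ e₁

/-- Over an affine base the locus is constructible. -/
theorem isConstructible_fibFlatAt_spec {A : CommRingCat.{u}} {X Y : Scheme.{u}} (f : X ⟶ Y) (h : Y ⟶ Spec A)
    [LocallyOfFinitePresentation h] [QuasiCompact h] [QuasiSeparated h]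
    [LocallyOfFinitePresentation (f ≫ h)] [QuasiCompact (f ≫ h)] [QuasiSeparated (f ≫ h)]
    {F : X.Modules} (hq : Coh.IsQCoh F) (hF : CohB1.IsFP F) :
    IsConstructible {x | FibFlatAt f h F x} := by
  obtain ⟨S₀, X₀, Y₀, π, f₀, h₀, qX, qY, F₀, _, _, _, _, _, sqY, sqX, hq₀, hF₀, ⟨e⟩⟩ := exists_model f h F hq hF
  haveI : LocallyOfFinitePresentation (f₀ ≫ h₀) := inferInstance
  have heq : {x | FibFlatAt f h F x} = qX ⁻¹' {x | FibFlatAt f₀ h₀ F₀ x} :=
    Set.ext fun x => (fibFlatAt_of_iso f h e.symm x).trans (fibFlatAt_baseChange sqY sqX hq₀ hF₀ x)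
  rw [heq]
  exact qX.isConstructible_preimage (isConstructible_fibFlatAt f₀ h₀ hq₀ hF₀)

/-- The set of points over which the module is flat on the fibre. -/
theorem isLocallyConstructible_fibre_locus {X Y S : Scheme.{u}} (f : X ⟶ Y) (h : Y ⟶ S)
    [LocallyOfFinitePresentation h] [QuasiCompact h] [QuasiSeparated h]
    [LocallyOfFinitePresentation (f ≫ h)] [QuasiCompact (f ≫ h)] [QuasiSeparated (f ≫ h)]
    {F : X.Modules} (hq : Coh.IsQCoh F) (hF : CohB1.IsFP F) :
    IsLocallyConstructible {s : S | ∀ x : X, (f ≫ h) x = s → FibFlatAt f h F x} := by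
  refine ConsPropLib.lc_of_affine fun V hV => ?_
  haveI : IsAffine (V : Scheme.{u}) := hV
  let j := (V : Scheme.{u}).isoSpec.inv ≫ V.ι
  obtain ⟨fT, sq, hc⟩ := ConsPropLib.exists_hom_baseChange f h j
  haveI : LocallyOfFinitePresentation (fT ≫ pullback.snd h j) := by rw [hc]; infer_instance
  haveI : QuasiCompact (fT ≫ pullback.snd h j) := by rw [hc]; infer_instance
  haveI : QuasiSeparated (fT ≫ pullback.snd h j) := by rw [hc]; infer_instance
  let q := pullback.fst (f ≫ h) j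
  have hW := isConstructible_fibFlatAt_spec fT (pullback.snd h j) (QCoh.isQCoh_pullback q hq)
    (LimModLib.isFP_pullback q hq hF)
  have hE : IsConstructible (j ⁻¹' {s : S | ∀ x : X, (f ≫ h) x = s → FibFlatAt f h F x}) := by
    have heq : j ⁻¹' {s : S | ∀ x : X, (f ≫ h) x = s → FibFlatAt f h F x} =
        ((fT ≫ pullback.snd h j) '' {z | FibFlatAt fT (pullback.snd h j) ((Scheme.Modules.pullback q).obj F) z}ᶜ)ᶜ := by
      ext t
      constructor
      · rintro ht ⟨z, hz, rfl⟩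
        refine hz ((fibFlatAt_baseChange (IsPullback.of_hasPullback h j) sq hq hF z).2 (ht _ ?_))
        rw [hc, ← Scheme.Hom.comp_apply, pullback.condition, Scheme.Hom.comp_apply]
      · intro ht x hx
        obtain ⟨z, hz1, hz2⟩ := Scheme.Pullback.exists_preimage_pullback x t hx
        by_contra hn
        refine ht ⟨z, fun hz => hn ?_, ?_⟩
        · have := (fibFlatAt_baseChange (IsPullback.of_hasPullback h j) sq hq hF z).1 hz
          rwa [show q z = x from hz1] at this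
        · rw [hc]; exact hz2
    rw [heq]
    exact ((fT ≫ pullback.snd h j).isConstructible_image hW.compl).compl
  have h2 := (V : Scheme.{u}).isoSpec.hom.isConstructible_preimage hE
  rw [← Set.preimage_comp] at h2
  have hj : (j : _ → _) ∘ ((V : Scheme.{u}).isoSpec.hom : _ → _) = (V.ι : _ → _) := funext fun x => by
    show j ((V : Scheme.{u}).isoSpec.hom x) = V.ι x
    rw [← Scheme.Hom.comp_apply, Iso.hom_inv_id_assoc]
  rw [hj] at h2
  exact h2

end Groth.Agent.FlatFibre5
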