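import Groth.Agent.FlatFibre5.Stalk
import Groth.Agent.FlatPt5.Descent
import Groth.Agent.GrFlat5.FlatAtIso
import Groth.Agent.S1392
import Groth.Agent.S12442

/-!
# Flatness on the fibres is invariant under base change
-/

set_option autoImplicit false
set_option maxHeartbeats 1000000
set_option synthInstance.maxHeartbeats 400000
set_option linter.style.haveILetI false
set_option backward.isDefEq.respectTransparency false
set_option backward.isDefEq.respectTransparency.types false

universe u

open CategoryTheory CategoryTheory.Limits AlgebraicGeometry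

namespace Groth.Agent.FlatFibre5

variable {X Y S X' Y' S' : Scheme.{u}} {f : X ⟶ Y} {h : Y ⟶ S} {f' : X' ⟶ Y'} {h' : Y' ⟶ S'}
  {j : S' ⟶ S} {qY : Y' ⟶ Y} {qX : X' ⟶ X}

/-- The square of the fibre maps is cartesian. -/
theorem isPullback_fiberMap (f : X ⟶ Y) (h : Y ⟶ S) (s : S) :
    IsPullback ((f ≫ h).fiberι s) (MoreMor.fiberMap f h s) f (h.fiberι s) := by
  refine IsPullback.of_bot ?_ (ConsPropLib.fiberMap_comp_ι f h s).symm
    (IsPullback.of_hasPullback h (S.fromSpecResidueField s))
  have h1 : MoreMor.fiberMap f h s ≫ pullback.snd h (S.fromSpecResidueField s) =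
      pullback.snd (f ≫ h) (S.fromSpecResidueField s) := ConsPropLib.fiberMap_comp_toSpec f h s
  rw [h1]
  exact IsPullback.of_hasPullback _ _

/-- Flatness on the fibres is invariant under base change. -/
theorem fibFlatAt_baseChange [LocallyOfFinitePresentation (f ≫ h)] [LocallyOfFiniteType h]
    (sqY : IsPullback qY h' h j) (sqX : IsPullback qX f' f qY) {F : X.Modules} (hF : Coh.IsQCoh F)
    (hFp : CohB1.IsFP F) (x' : X') :
    FibFlatAt f' h' ((Scheme.Modules.pullback qX).obj F) x' ↔ FibFlatAt f h F (qX x') := by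
  haveI : LocallyOfFinitePresentation f := S12442.locallyOfFinitePresentation_of_comp f h
  let s' := (f' ≫ h') x'
  obtain ⟨z', hz⟩ : ∃ z', (f' ≫ h').fiberι s' z' = x' := ⟨_, (f' ≫ h').fiberι_asFiber x'⟩
  obtain ⟨eX, hX, hXι⟩ := ConsPropLib.exists_fibre_pullback (sqX.paste_vert sqY) s'
  obtain ⟨eY, hY, hYι⟩ := ConsPropLib.exists_fibre_pullback sqY s'
  have hw : eX ≫ MoreMor.fiberMap f h (j s') = MoreMor.fiberMap f' h' s' ≫ eY := by
    refine pullback.hom_ext ?_ ?_
    · show (eX ≫ MoreMor.fiberMap f h (j s')) ≫ h.fiberι (j s') = (_ ≫ eY) ≫ h.fiberι (j s')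
      rw [Category.assoc, ConsPropLib.fiberMap_comp_ι, ← Category.assoc eX, hXι, Category.assoc, sqX.w,
        Category.assoc, hYι, ← Category.assoc, ← Category.assoc, ConsPropLib.fiberMap_comp_ι]
    · show (eX ≫ MoreMor.fiberMap f h (j s')) ≫ h.fiberToSpecResidueField (j s') =
        (_ ≫ eY) ≫ h.fiberToSpecResidueField (j s')
      rw [Category.assoc, ConsPropLib.fiberMap_comp_toSpec, hX.w, Category.assoc, hY.w, ← Category.assoc,
        ConsPropLib.fiberMap_comp_toSpec]
  have sqF : IsPullback eX (MoreMor.fiberMap f' h' s') (MoreMor.fiberMap f h (j s')) eY := by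
    refine IsPullback.of_bot ?_ hw hY
    rw [ConsPropLib.fiberMap_comp_toSpec, ConsPropLib.fiberMap_comp_toSpec]
    exact hX
  haveI : LocallyOfFinitePresentation (MoreMor.fiberMap f h (j s')) :=
    MorphismProperty.of_isPullback (P := (@LocallyOfFinitePresentation : MorphismProperty Scheme.{u}))
      (isPullback_fiberMap f h (j s')) inferInstance
  haveI : Flat (Spec.map (j.residueFieldMap s')) := by
    rw [Flat.SpecMap_iff]
    let := (j.residueFieldMap s').hom.toAlgebra
    exact RingHom.flat_algebraMap_iff.2 inferInstance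
  haveI : Flat eY := MorphismProperty.of_isPullback (P := (@Flat : MorphismProperty Scheme.{u})) hY.flip ‹_›
  have hz2 : (f ≫ h).fiberι (j s') (eX z') = qX x' := by
    rw [← Scheme.Hom.comp_apply, hXι, Scheme.Hom.comp_apply, hz]
  rw [← hz2]
  conv_lhs => rw [← hz]
  rw [fibFlatAt_iff, fibFlatAt_iff]
  let P := (Scheme.Modules.pullback ((f ≫ h).fiberι (j s'))).obj F
  have hPq : Coh.IsQCoh P := QCoh.isQCoh_pullback _ hF
  have hPp : CohB1.IsFP P := LimModLib.isFP_pullback _ hF hFp
  let e : (Scheme.Modules.pullback ((f' ≫ h').fiberι s')).obj ((Scheme.Modules.pullback qX).obj F) ≅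
      (Scheme.Modules.pullback eX).obj P :=
    (Scheme.Modules.pullbackComp ((f' ≫ h').fiberι s') qX).app F ≪≫ eqToIso (by rw [hXι]) ≪≫
      ((Scheme.Modules.pullbackComp eX ((f ≫ h).fiberι (j s'))).app F).symm
  constructor
  · intro H
    exact S1392.result _ _ eX eY sqF P hPq z' (Flat.stalkMap eY _) (GrFlat5.isFlatOverAt_of_iso _ e z' H)
  · intro H
    exact GrFlat5.isFlatOverAt_of_iso _ e.symm z' (FlatPt5.flatAt_of_baseChange sqF hPq hPp z' H)

end Groth.Agent.FlatFibre5
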