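import Groth.Agent.FlatFibre5.Invariance
import Groth.Agent.FlatPt5.Fibre
import Groth.Agent.S4863
import Groth.Agent.S0386
import Groth.Agent.ConsPropLib.NoetherianLoci

/-!
# The locus of flatness on the fibres over a noetherian base
-/

set_option autoImplicit false
set_option maxHeartbeats 1000000
set_option synthInstance.maxHeartbeats 400000
set_option linter.style.haveILetI false
set_option backward.isDefEq.respectTransparency false
set_option backward.isDefEq.respectTransparency.types false

universe u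

open CategoryTheory CategoryTheory.Limits AlgebraicGeometry Topology

namespace Groth.Agent.FlatFibre5

variable {X Y S : Scheme.{u}} (f : X ⟶ Y) (h : Y ⟶ S)

theorem isLocallyConstructible_compl {α : Type*} [TopologicalSpace α] {E : Set α} (hE : IsLocallyConstructible E) :
    IsLocallyConstructible Eᶜ := fun x => by
  obtain ⟨U, hU, hUo, hc⟩ := hE x
  exact ⟨U, hU, hUo, hc.compl⟩

/-- Over a nonempty open part of an integral noetherian base, the locus is constructible. -/
theorem exists_open_good [IsIntegral S] [IsNoetherian S] [LocallyOfFiniteType h] [QuasiCompact h]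
    [LocallyOfFiniteType (f ≫ h)] [QuasiCompact (f ≫ h)] {F : X.Modules} (hF : Coh.IsQCoh F) (hFp : CohB1.IsFP F) :
    ∃ U : Set S, IsOpen U ∧ genericPoint S ∈ U ∧ IsConstructible ({x | FibFlatAt f h F x} ∩ (f ≫ h) ⁻¹' U) := by
  haveI := hF
  haveI : IsLocallyNoetherian X := LocallyOfFiniteType.isLocallyNoetherian (f ≫ h)
  haveI : IsLocallyNoetherian Y := LocallyOfFiniteType.isLocallyNoetherian h
  haveI : CompactSpace X := QuasiCompact.compactSpace_of_compactSpace (f ≫ h)
  haveI : CompactSpace Y := QuasiCompact.compactSpace_of_compactSpace h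
  haveI : IsNoetherian X := {}
  haveI : IsNoetherian Y := {}
  haveI : LocallyOfFinitePresentation f := S12442.locallyOfFinitePresentation_of_comp f h
  have hfld : ∀ t : S, t = genericPoint S → IsField (S.presheaf.stalk t) := by
    rintro t rfl
    exact Field.toIsField S.functionField
  let A : Set X := {x | FlatMod.IsFlatOverAt (f ≫ h) F x}
  let B : Set Y := {y | (h.stalkMap y).hom.Flat}
  have hA : IsOpen A := S4863.result (f ≫ h) F hFp
  have hB : IsOpen B := S0386.result h
  have hAη : genericPoint S ∉ (f ≫ h) '' Aᶜ := by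
    rintro ⟨x, hx, hxη⟩
    refine hx ?_
    letI := (hfld _ hxη).toField
    letI := FlatMod.moduleStalkOver (f ≫ h) F x
    show Module.Flat (S.presheaf.stalk ((f ≫ h) x)) (F.presheaf.stalk x)
    infer_instance
  have hBη : genericPoint S ∉ h '' Bᶜ := by
    rintro ⟨y, hy, hyη⟩
    refine hy ?_
    letI := (hfld _ hyη).toField
    letI := (h.stalkMap y).hom.toAlgebra
    exact RingHom.flat_algebraMap_iff.2 inferInstance
  have hcA := isLocallyConstructible_compl ((f ≫ h).isLocallyConstructible_image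
    (SpecLib.isConstructible_of_isClosed hA.isClosed_compl).isLocallyConstructible)
  have hcB := isLocallyConstructible_compl (h.isLocallyConstructible_image
    (SpecLib.isConstructible_of_isClosed hB.isClosed_compl).isLocallyConstructible)
  refine ⟨interior ((f ≫ h) '' Aᶜ)ᶜ ∩ interior (h '' Bᶜ)ᶜ, isOpen_interior.inter isOpen_interior,
    ⟨ConsPropLib.mem_interior_of_isLocallyConstructible hcA hAη,
      ConsPropLib.mem_interior_of_isLocallyConstructible hcB hBη⟩, ?_⟩
  refine SpecLib.isConstructible_of_isOpen ?_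
  have key : ∀ x ∈ (f ≫ h) ⁻¹' (interior ((f ≫ h) '' Aᶜ)ᶜ ∩ interior (h '' Bᶜ)ᶜ),
      FibFlatAt f h F x ↔ FlatMod.IsFlatOverAt f F x := by
    intro x hx
    have h1 : x ∈ A := not_not.1 fun hn => interior_subset hx.1 ⟨x, hn, rfl⟩
    have h2 : f x ∈ B := not_not.1 fun hn => interior_subset hx.2 ⟨f x, hn, (Scheme.Hom.comp_apply f h x).symm⟩
    rcases subsingleton_or_nontrivial ↑(F.presheaf.stalk x) with hs | hn
    · exact iff_of_true (by unfold FibFlatAt; infer_instance) (by unfold FlatMod.IsFlatOverAt; infer_instance)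
    · have c := FlatPt5.fibre_criterion f h F (QCoh.isCoh_iff_isFP.2 hFp) x hn
      exact ⟨fun hf => (c.1 ⟨h1, hf⟩).2, fun hf => (c.2 ⟨h2, hf⟩).2⟩
  have heq : {x | FibFlatAt f h F x} ∩ (f ≫ h) ⁻¹' (interior ((f ≫ h) '' Aᶜ)ᶜ ∩ interior (h '' Bᶜ)ᶜ) =
      {x | FlatMod.IsFlatOverAt f F x} ∩ (f ≫ h) ⁻¹' (interior ((f ≫ h) '' Aᶜ)ᶜ ∩ interior (h '' Bᶜ)ᶜ) :=
    Set.ext fun x => and_congr_left fun hx => key x hx
  rw [heq]
  exact (S4863.result f F hFp).inter ((isOpen_interior.inter isOpen_interior).preimage (f ≫ h).continuous)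

/-- Over a noetherian base the locus is constructible. -/
theorem isConstructible_fibFlatAt [IsNoetherian S] [LocallyOfFiniteType h] [QuasiCompact h]
    [LocallyOfFiniteType (f ≫ h)] [QuasiCompact (f ≫ h)] {F : X.Modules} (hF : Coh.IsQCoh F) (hFp : CohB1.IsFP F) :
    IsConstructible {x | FibFlatAt f h F x} := by
  haveI : IsLocallyNoetherian X := LocallyOfFiniteType.isLocallyNoetherian (f ≫ h)
  haveI : CompactSpace X := QuasiCompact.compactSpace_of_compactSpace (f ≫ h)
  haveI : IsNoetherian X := {}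
  suffices H : ∀ C : Set S, IsClosed C → IsConstructible ({x | FibFlatAt f h F x} ∩ (f ≫ h) ⁻¹' C) by
    simpa using H Set.univ isClosed_univ
  intro C hC
  refine SpecLib.irred_induction (P := fun C => IsConstructible ({x | FibFlatAt f h F x} ∩ (f ≫ h) ⁻¹' C))
    (by simp) (fun A B _ _ a b => by rw [Set.preimage_union, Set.inter_union_distrib_left]; exact a.union b) ?_ hC
  intro C hC hirr ih
  obtain ⟨T, j, _, _, hr, -⟩ := ConsPropLib.exists_integral_closure hirr.genericPoint
  rw [hirr.isGenericPoint_genericPoint_closure.def, hC.closure_eq] at hr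
  haveI : IsLocallyNoetherian T := LocallyOfFiniteType.isLocallyNoetherian j
  haveI : CompactSpace T := QuasiCompact.compactSpace_of_compactSpace j
  haveI : IsNoetherian T := {}
  obtain ⟨fT, sq, hc⟩ := ConsPropLib.exists_hom_baseChange f h j
  haveI : LocallyOfFiniteType (fT ≫ pullback.snd h j) := by rw [hc]; infer_instance
  haveI : QuasiCompact (fT ≫ pullback.snd h j) := by rw [hc]; infer_instance
  haveI : LocallyOfFinitePresentation (f ≫ h) := inferInstance
  let q := pullback.fst (f ≫ h) j
  have sqY := IsPullback.of_hasPullback h j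
  obtain ⟨U, hU, hη, hcons⟩ := exists_open_good fT (pullback.snd h j) (QCoh.isQCoh_pullback q hF)
    (LimModLib.isFP_pullback q hF hFp)
  obtain ⟨V, hV, hVU⟩ := j.isClosedEmbedding.isInducing.isOpen_iff.1 hU
  haveI : LocallyOfFinitePresentation q := inferInstance
  have h1 : q '' ({z | FibFlatAt fT (pullback.snd h j) ((Scheme.Modules.pullback q).obj F) z} ∩
      (fT ≫ pullback.snd h j) ⁻¹' U) = {x | FibFlatAt f h F x} ∩ (f ≫ h) ⁻¹' (C ∩ V) := by
    ext x
    constructor
    · rintro ⟨z, ⟨hz, hzU⟩, rfl⟩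
      have hj : (f ≫ h) (q z) = j ((fT ≫ pullback.snd h j) z) := by
        rw [hc, ← Scheme.Hom.comp_apply, pullback.condition, Scheme.Hom.comp_apply]
      refine ⟨(fibFlatAt_baseChange sqY sq hF hFp z).1 hz, ?_⟩
      show (f ≫ h) (q z) ∈ C ∩ V
      rw [hj]
      exact ⟨hr ▸ ⟨_, rfl⟩, by rw [← hVU] at hzU; exact hzU⟩
    · rintro ⟨hx, hxC, hxV⟩
      obtain ⟨t, ht⟩ : (f ≫ h) x ∈ Set.range j := hr.symm ▸ hxC
      obtain ⟨z, hz1, hz2⟩ := Scheme.Pullback.exists_preimage_pullback x t ht.symm
      refine ⟨z, ⟨(fibFlatAt_baseChange sqY sq hF hFp z).2 (by rw [show q z = x from hz1]; exact hx), ?_⟩, hz1⟩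
      show (fT ≫ pullback.snd h j) z ∈ U
      rw [hc, hz2, ← hVU]
      show j t ∈ V
      rw [ht]
      exact hxV
  have h2 : IsConstructible ({x | FibFlatAt f h F x} ∩ (f ≫ h) ⁻¹' (C ∩ V)) := h1 ▸ q.isConstructible_image hcons
  have hss : C \ V ⊂ C := Set.sdiff_subset.ssubset_of_ne fun e => by
    have hjη : j (genericPoint T) ∈ C := hr ▸ ⟨_, rfl⟩
    rw [← e] at hjη
    exact hjη.2 (by rw [← hVU] at hη; exact hη)
  have h3 := h2.union (ih _ (hC.sdiff hV) hss)
  rwa [← Set.inter_union_distrib_left, ← Set.preimage_union, Set.inter_union_sdiff] at h3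

end Groth.Agent.FlatFibre5
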