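import Groth.Agent.FibFlat.Stalk
import Groth.Agent.S9501
import Groth.Agent.S9350
import Groth.Prelude.Def_MoreMor

/-!
# Flatness on the fibres in terms of stalks
-/

set_option autoImplicit false
set_option maxHeartbeats 1000000
set_option synthInstance.maxHeartbeats 400000
set_option linter.style.haveILetI false
set_option backward.isDefEq.respectTransparency false
set_option backward.isDefEq.respectTransparency.types false

universe u

open CategoryTheory CategoryTheory.Limits AlgebraicGeometry TensorProduct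

namespace Groth.Agent.FlatFibre5

/-- Flatness of the base change to compatible quotient rings. -/
theorem flat_tensor_quot_iff {A A' B B' M : Type u} [CommRing A] [CommRing A'] [CommRing B] [CommRing B']
    [Algebra A B] [Algebra A A'] [Algebra B B'] [Algebra A' B'] [Algebra A B'] [IsScalarTower A B B']
    [IsScalarTower A A' B'] [AddCommGroup M] [Module A M] [Module B M] [IsScalarTower A B M] (I : Ideal A)
    (hA : Function.Surjective (algebraMap A A')) (hkA : RingHom.ker (algebraMap A A') = I)
    (hB : Function.Surjective (algebraMap B B')) (hkB : RingHom.ker (algebraMap B B') = I.map (algebraMap A B)) :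
    Module.Flat A' (B' ⊗[B] M) ↔ Module.Flat (A ⧸ I) (M ⧸ (I • (⊤ : Submodule A M))) := by
  let ψ : M →ₗ[A] B' ⊗[B] M := (TensorProduct.mk B B' M 1).restrictScalars A
  have hsurj : Function.Surjective ψ := fun t => by
    induction t using TensorProduct.induction_on with
    | zero => exact ⟨0, map_zero ψ⟩
    | tmul b m =>
      obtain ⟨b, rfl⟩ := hB b
      exact ⟨b • m, by
        show (1 : B') ⊗ₜ[B] (b • m) = algebraMap B B' b ⊗ₜ[B] m
        rw [← smul_tmul, Algebra.smul_def, mul_one]⟩
    | add x y hx hy =>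
      obtain ⟨x, rfl⟩ := hx
      obtain ⟨y, rfl⟩ := hy
      exact ⟨x + y, map_add ψ x y⟩
  have hker : LinearMap.ker ψ = I • (⊤ : Submodule A M) := by
    refine le_antisymm (fun m hm => ?_) (Submodule.smul_le.2 fun a ha m _ => ?_)
    · let J : Ideal B := I.map (algebraMap A B)
      let e : (B ⧸ J) ≃ₐ[B] B' := AlgEquiv.ofBijective (Ideal.Quotient.liftₐ J (Algebra.ofId B B')
          (fun a ha => hkB.ge ha)) ⟨(injective_iff_map_eq_zero _).2 fun x hx => by
            obtain ⟨x, rfl⟩ := Ideal.Quotient.mk_surjective x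
            exact Ideal.Quotient.eq_zero_iff_mem.2 (hkB.le hx),
          fun y => ⟨Ideal.Quotient.mk J (hB y).choose, (hB y).choose_spec⟩⟩
      have h1 : ((1 : B ⧸ J) ⊗ₜ[B] m) = 0 := by
        apply (TensorProduct.congr e.toLinearEquiv (LinearEquiv.refl B M)).injective
        rw [map_zero, TensorProduct.congr_tmul]
        have hm' : (1 : B') ⊗ₜ[B] m = 0 := hm
        simpa using hm'
      have h2 := congrArg (quotTensorEquivQuotSMul M J) h1
      rw [map_zero, ← map_one (Ideal.Quotient.mk J), quotTensorEquivQuotSMul_mk_tmul, one_smul,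
        Submodule.Quotient.mk_eq_zero] at h2
      refine Submodule.smul_induction_on h2 (fun b hb n _ => ?_) (fun x y => Submodule.add_mem _)
      induction hb using Submodule.span_induction generalizing n with
      | mem y hy =>
        obtain ⟨a, ha, rfl⟩ := hy
        rw [algebraMap_smul]
        exact Submodule.smul_mem_smul ha trivial
      | zero => rw [zero_smul]; exact Submodule.zero_mem _
      | add y z _ _ hy hz => rw [add_smul]; exact Submodule.add_mem _ (hy _ trivial) (hz _ trivial)
      | smul c y _ hy => rw [smul_eq_mul, mul_comm, mul_smul]; exact hy _ trivial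
    · show ψ (a • m) = 0
      have h0 : algebraMap A B' a = 0 := by
        rw [IsScalarTower.algebraMap_apply A B B']
        exact hkB.ge (Ideal.mem_map_of_mem _ ha)
      rw [map_smul, ← algebraMap_smul B' a, h0, zero_smul]
  let φ := (Submodule.quotEquivOfEq _ _ hker.symm).trans (ψ.quotKerEquivOfSurjective hsurj)
  let π : (A ⧸ I) →+* A' := Ideal.Quotient.lift I (algebraMap A A') (fun a ha => hkA.ge ha)
  have hπ : Function.Bijective π := ⟨(injective_iff_map_eq_zero _).2 fun x hx => by
      obtain ⟨x, rfl⟩ := Ideal.Quotient.mk_surjective x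
      exact Ideal.Quotient.eq_zero_iff_mem.2 (hkA.le hx),
    fun y => ⟨Ideal.Quotient.mk I (hA y).choose, (hA y).choose_spec⟩⟩
  letI : Algebra (A ⧸ I) A' := π.toAlgebra
  letI : Module (A ⧸ I) (B' ⊗[B] M) := Module.compHom _ π
  haveI : IsScalarTower (A ⧸ I) A' (B' ⊗[B] M) := .of_algebraMap_smul fun _ _ => rfl
  haveI : IsScalarTower A (A ⧸ I) (B' ⊗[B] M) := .of_algebraMap_smul fun a t => by
    show algebraMap A A' a • t = a • t
    rw [algebraMap_smul]
  haveI : IsLocalization (⊥ : Submonoid (A ⧸ I)) A' :=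
    IsLocalization.of_le_isUnit_of_bijective (by rw [Algebra.algebraMapSubmonoid, Submonoid.map_bot]; exact bot_le) hπ
  rw [Module.flat_iff_of_isLocalization A' (⊥ : Submonoid (A ⧸ I)) (B' ⊗[B] M)]
  exact (Module.Flat.equiv_iff (φ.extendScalarsOfSurjective Ideal.Quotient.mk_surjective)).symm

/-- The kernel of the stalk map of the inclusion of a fibre. -/
theorem ker_sm {Y S : Scheme.{u}} (h : Y ⟶ S) (s : S) (y' : ↥(h.fiber s)) (y : Y) (hy : h.fiberι s y' = y) :
    RingHom.ker (FibFlat.sm (h.fiberι s) y' y hy) =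
      Ideal.map (h.stalkMap y).hom (IsLocalRing.maximalIdeal (S.presheaf.stalk (h y))) := by
  subst hy
  rw [FibFlat.sm_self]
  exact (S9501.result h s y').2

/-- The flatness condition on the stalks of a fibre. -/
def FibFlatAt {X Y S : Scheme.{u}} (f : X ⟶ Y) (h : Y ⟶ S) (F : X.Modules) (x : X) : Prop :=
  letI := FlatMod.moduleStalkOver f F x
  Module.Flat (↑(Y.presheaf.stalk (f x)) ⧸ Ideal.map (h.stalkMap (f x)).hom (IsLocalRing.maximalIdeal ↑(S.presheaf.stalk (h (f x)))))
    (↑(F.presheaf.stalk x) ⧸ (Ideal.map (h.stalkMap (f x)).hom (IsLocalRing.maximalIdeal ↑(S.presheaf.stalk (h (f x)))) •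
      (⊤ : Submodule ↑(Y.presheaf.stalk (f x)) ↑(F.presheaf.stalk x))))

/-- The condition on stalks is flatness of the morphism of fibres. -/
theorem fibFlatAt_iff {X Y S : Scheme.{u}} (f : X ⟶ Y) (h : Y ⟶ S) (F : X.Modules) (s : S) (z : ↥((f ≫ h).fiber s)) :
    FibFlatAt f h F ((f ≫ h).fiberι s z) ↔
      FlatMod.IsFlatOverAt (MoreMor.fiberMap f h s) ((Scheme.Modules.pullback ((f ≫ h).fiberι s)).obj F) z := by
  let iX := (f ≫ h).fiberι s
  let iY := h.fiberι s
  let fs := MoreMor.fiberMap f h s
  have hc : fs ≫ iY = iX ≫ f := pullback.lift_fst _ _ _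
  have hy : iY (fs z) = f (iX z) := by rw [← Scheme.Hom.comp_apply, hc, Scheme.Hom.comp_apply]
  let A := Y.presheaf.stalk (f (iX z))
  let B := X.presheaf.stalk (iX z)
  let A' := (h.fiber s).presheaf.stalk (fs z)
  let B' := ((f ≫ h).fiber s).presheaf.stalk z
  letI : Algebra A B := (f.stalkMap (iX z)).hom.toAlgebra
  letI : Algebra B B' := (iX.stalkMap z).hom.toAlgebra
  letI : Algebra A A' := (FibFlat.sm iY (fs z) (f (iX z)) hy).toAlgebra
  letI : Algebra A' B' := (fs.stalkMap z).hom.toAlgebra
  letI : Algebra A B' := ((iX.stalkMap z).hom.comp (f.stalkMap (iX z)).hom).toAlgebra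
  haveI : IsScalarTower A B B' := .of_algebraMap_eq fun _ => rfl
  haveI : IsScalarTower A A' B' := IsScalarTower.of_algebraMap_eq' (by
    show (iX.stalkMap z).hom.comp (f.stalkMap (iX z)).hom = (fs.stalkMap z).hom.comp (FibFlat.sm iY (fs z) (f (iX z)) hy)
    rw [← FibFlat.sm_self, ← FibFlat.sm_self, ← FibFlat.sm_self,
      ← FibFlat.sm_comp iX f z (iX z) (f (iX z)) rfl rfl, ← FibFlat.sm_comp fs iY z (fs z) (f (iX z)) rfl hy]
    exact FibFlat.sm_congr hc.symm _ _ _)
  letI : Module A (F.presheaf.stalk (iX z)) := FlatMod.moduleStalkOver f F (iX z)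
  haveI : IsScalarTower A B (F.presheaf.stalk (iX z)) := .of_algebraMap_smul fun _ _ => rfl
  let I : Ideal A := Ideal.map (h.stalkMap (f (iX z))).hom (IsLocalRing.maximalIdeal ↑(S.presheaf.stalk (h (f (iX z)))))
  have hkB : RingHom.ker (algebraMap B B') = I.map (algebraMap A B) := by
    refine (S9501.result (f ≫ h) s z).2.trans ?_
    show Ideal.map ((f ≫ h).stalkMap (iX z)).hom _ = (Ideal.map _ _).map (f.stalkMap (iX z)).hom
    rw [Ideal.map_map, Scheme.Hom.stalkMap_comp]
    rfl
  have key := flat_tensor_quot_iff (A := A) (A' := A') (B := B) (B' := B') (M := F.presheaf.stalk (iX z)) I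
    (FibFlat.surjective_sm (fs z) _ hy) (ker_sm h s (fs z) _ hy) (S9501.result (f ≫ h) s z).1 hkB
  refine key.symm.trans ?_
  let P := (Scheme.Modules.pullback iX).obj F
  letI : Module A' (P.presheaf.stalk z) := FlatMod.moduleStalkOver fs P z
  haveI : IsScalarTower A' B' (P.presheaf.stalk z) := .of_algebraMap_smul fun _ _ => rfl
  let e : P.presheaf.stalk z ≃ₗ[B'] B' ⊗[B] F.presheaf.stalk (iX z) :=
    ((KFlatLib.stalkPullbackIso iX z).app F).toLinearEquiv
  exact (Module.Flat.equiv_iff (e.restrictScalars A')).symm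

end Groth.Agent.FlatFibre5
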